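import Groth.Agent.Lib.FlatH4.PullChart
import Mathlib.RingTheory.RingHom.Smooth

/-!
# Formally smooth affine neighbourhoods in a fibre product
-/

set_option autoImplicit false
set_option linter.style.haveILetI false
set_option backward.isDefEq.respectTransparency.types false
universe u

open AlgebraicGeometry CategoryTheory Limits TopologicalSpace

namespace Groth.Agent.FormSmooth4

theorem formallySmooth_res_basicOpen {X : Scheme.{u}} {U : X.Opens} (hU : IsAffineOpen U) (r : Γ(X, U)) {V : X.Opens}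
    (e : V = X.basicOpen r) (h : V ≤ U) : (X.presheaf.map (homOfLE h).op).hom.FormallySmooth := by
  subst e
  letI := (X.presheaf.map (homOfLE h).op).hom.toAlgebra
  haveI : IsLocalization.Away r Γ(X, X.basicOpen r) := hU.isLocalization_basicOpen r
  exact RingHom.formallySmooth_algebraMap.2 (.of_isLocalization (.powers r))

/-- Around each point of an open piece of the fibre product there is an affine open formally smooth over the base. -/
theorem exists_fs_nbhd {X S : Scheme.{u}} (f : X ⟶ S)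
    (hfs : ∀ x : X, ∃ (U : X.Opens) (V : S.Opens) (_ : IsAffineOpen U) (_ : IsAffineOpen V) (e : U ≤ f ⁻¹ᵁ V),
      x ∈ U ∧ (f.appLE V U e).hom.FormallySmooth)
    {A : CommRingCat.{u}} (a : Spec A ⟶ S) {W : Scheme.{u}} (j : W ⟶ pullback f a) [IsOpenImmersion j] (w : W) :
    ∃ (V : W.Opens), IsAffineOpen V ∧ w ∈ V ∧ ((j ≫ pullback.snd f a).appLE ⊤ V le_top).hom.FormallySmooth := by
  obtain ⟨U, VS, hU, hVS, e, hxU, hfs⟩ := hfs (pullback.fst f a (j w))
  have hpV : pullback.snd f a (j w) ∈ a ⁻¹ᵁ VS := by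
    show a (pullback.snd f a (j w)) ∈ VS
    rw [← Scheme.Hom.comp_apply, ← pullback.condition, Scheme.Hom.comp_apply]
    exact e hxU
  obtain ⟨g, hgV, hpg⟩ := (isAffineOpen_top (Spec A)).exists_basicOpen_le ⟨_, hpV⟩ trivial
  let O := (Spec A).basicOpen g
  have hO : IsAffineOpen O := (isAffineOpen_top (Spec A)).basicOpen g
  let P0 : (pullback f a).Opens := pullback.fst f a ⁻¹ᵁ U ⊓ pullback.snd f a ⁻¹ᵁ O
  have hP0 : IsAffineOpen P0 :=
    FlatH4.isAffineOpen_of_isPullback (IsPullback.of_hasPullback f a) hgV e (rfl : P0 = _) hVS hO hU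
  have hpo := FlatH4.isPushout_sections (IsPullback.of_hasPullback f a) hgV e (rfl : P0 = _) hVS hO hU
  have h1 : ((pullback.snd f a).appLE O P0 inf_le_right).hom.FormallySmooth := by
    letI := (f.appLE VS U e).hom.toAlgebra
    letI := (a.appLE VS O hgV).hom.toAlgebra
    letI := ((pullback.fst f a).appLE U P0 inf_le_left).hom.toAlgebra
    letI := ((pullback.snd f a).appLE O P0 inf_le_right).hom.toAlgebra
    letI : Algebra Γ(S, VS) Γ(pullback f a, P0) :=
      (f.appLE VS U e ≫ (pullback.fst f a).appLE U P0 inf_le_left).hom.toAlgebra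
    haveI : IsScalarTower Γ(S, VS) Γ(X, U) Γ(pullback f a, P0) := IsScalarTower.of_algebraMap_eq fun _ => rfl
    haveI : IsScalarTower Γ(S, VS) Γ(Spec A, O) Γ(pullback f a, P0) :=
      IsScalarTower.of_algebraMap_eq fun r => ConcreteCategory.congr_hom hpo.w r
    haveI : Algebra.IsPushout Γ(S, VS) Γ(X, U) Γ(Spec A, O) Γ(pullback f a, P0) :=
      CommRingCat.isPushout_iff_isPushout.1 hpo
    exact RingHom.FormallySmooth.isStableUnderBaseChange Γ(S, VS) Γ(X, U) Γ(Spec A, O) Γ(pullback f a, P0) hfs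
  obtain ⟨r, hr, hwr⟩ := hP0.exists_basicOpen_le (V := j.opensRange) ⟨j w, ⟨w, rfl⟩⟩ ⟨hxU, hpg⟩
  refine ⟨j ⁻¹ᵁ (pullback f a).basicOpen r, (hP0.basicOpen r).preimage_of_isOpenImmersion j hr, hwr, ?_⟩
  haveI : IsIso (j.app ((pullback f a).basicOpen r)) := Scheme.Hom.isIso_app _ _ hr
  have hfac : (j ≫ pullback.snd f a).appLE ⊤ (j ⁻¹ᵁ (pullback f a).basicOpen r) le_top =
      (Spec A).presheaf.map (homOfLE (le_top : O ≤ ⊤)).op ≫ (pullback.snd f a).appLE O P0 inf_le_right ≫
        (pullback f a).presheaf.map (homOfLE ((pullback f a).basicOpen_le r)).op ≫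
        j.app ((pullback f a).basicOpen r) := by
    rw [Scheme.Hom.app_eq_appLE]
    simp [Scheme.Hom.appLE_comp_appLE]
  rw [hfac]
  exact (((formallySmooth_res_basicOpen (isAffineOpen_top _) g rfl le_top).comp h1).comp
    (formallySmooth_res_basicOpen hP0 r rfl _)).comp (RingHom.FormallySmooth.of_bijective
      (ConcreteCategory.bijective_of_isIso (j.app ((pullback f a).basicOpen r))))

end Groth.Agent.FormSmooth4
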