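import Groth.Agent.Lib.ProjLoc12.Alg
import Mathlib.RingTheory.RingHom.Smooth
import Mathlib.RingTheory.Smooth.Basic

/-!
# Projectivity of a square-zero augmentation ideal from formally smooth charts
-/

set_option autoImplicit false
set_option linter.style.haveILetI false
universe u

namespace Groth.Agent.FormSmooth4

open TensorProduct

variable {R B : Type u} [CommRing R] [CommRing B] [Algebra R B] (ε : B →ₐ[R] R) (g : R)

/-- The augmentation after localising. -/
noncomputable def epsAway : Localization.Away (algebraMap R B g) →ₐ[R] Localization.Away g :=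
  IsLocalization.liftAlgHom (M := Submonoid.powers (algebraMap R B g))
    (f := (Algebra.ofId R (Localization.Away g)).comp ε) (by
      rintro ⟨_, n, rfl⟩
      simp only [AlgHom.comp_apply, map_pow, AlgHom.commutes]
      exact (IsLocalization.Away.algebraMap_isUnit g).pow n)

theorem epsAway_algebraMap (b : B) :
    epsAway ε g (algebraMap B (Localization.Away (algebraMap R B g)) b) = algebraMap R (Localization.Away g) (ε b) := by
  rw [epsAway, IsLocalization.liftAlgHom_apply, IsLocalization.lift_eq]
  rfl

/-- A chart presenting the first order neighbourhood over the formally smooth algebra `C`. -/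
theorem exists_isLocalizedModule_projective {C : Type u} [CommRing C] [Algebra R C] [Algebra.FormallySmooth R C]
    (χ : C →ₐ[R] Localization.Away (algebraMap R B g)) (hχ : Function.Surjective χ)
    (hker : RingHom.ker χ = RingHom.ker ((epsAway ε g).comp χ) ^ 2) :
    ∃ (N : Type u) (_ : AddCommGroup N) (_ : Module R N) (_ : Module (Localization.Away g) N)
      (_ : IsScalarTower R (Localization.Away g) N) (L : RingHom.ker ε →ₗ[R] N),
      IsLocalizedModule (Submonoid.powers g) L ∧ Module.Projective (Localization.Away g) N := by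
  classical
  set E := Localization.Away (algebraMap R B g)
  set R1 := Localization.Away g
  set φ := (epsAway ε g).comp χ
  have hφ : Function.Surjective φ := by
    intro y
    obtain ⟨⟨r, ⟨_, n, rfl⟩⟩, hy⟩ := IsLocalization.surj (Submonoid.powers g) y
    obtain ⟨c, hc⟩ := hχ (IsLocalization.mk' E (algebraMap R B r) (⟨_, n, rfl⟩ : Submonoid.powers (algebraMap R B g)))
    refine ⟨c, ((IsLocalization.Away.algebraMap_isUnit g).pow n).mul_left_injective ?_⟩
    show φ c * algebraMap R R1 g ^ n = y * algebraMap R R1 g ^ n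
    rw [← map_pow, hy]
    refine Eq.trans ?_ ((congrArg (epsAway ε g) (IsLocalization.mk'_spec E (algebraMap R B r)
      (⟨_, n, rfl⟩ : Submonoid.powers (algebraMap R B g)))).trans ?_)
    · refine Eq.trans ?_ (map_mul _ _ _).symm
      refine congrArg₂ (· * ·) (congrArg (epsAway ε g) hc) ?_
      refine Eq.trans ?_ (epsAway_algebraMap ε g _).symm
      show algebraMap R R1 (g ^ n) = algebraMap R R1 (ε ((algebraMap R B g) ^ n))
      rw [map_pow ε, AlgHom.commutes]
      rfl
    · rw [epsAway_algebraMap, AlgHom.commutes]; rfl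
  let P : Algebra.Extension R R1 := Algebra.Extension.ofSurjective φ hφ
  haveI : Algebra.FormallySmooth R P.Ring := ‹Algebra.FormallySmooth R C›
  haveI : Algebra.FormallySmooth R R1 := Algebra.FormallySmooth.of_isLocalization (Submonoid.powers g)
  have hproj : Module.Projective R1 P.Cotangent := by
    obtain ⟨l, hl⟩ := P.formallySmooth_iff_split_injection.1 inferInstance
    exact Module.Projective.of_split P.cotangentComplex l hl
  have hex : ∀ x : RingHom.ker ε, ∃ c : P.ker, χ c.1 = algebraMap B E x.1 := fun x => by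
    obtain ⟨c, hc⟩ := hχ (algebraMap B E x.1)
    refine ⟨⟨c, ?_⟩, hc⟩
    show φ c = 0
    rw [AlgHom.comp_apply, hc, epsAway_algebraMap, show ε x.1 = 0 from x.2, map_zero]
  let ζ : P.ker → C := fun d => d.1
  have hζa : ∀ a b : P.ker, χ (ζ (a + b)) = χ (ζ a) + χ (ζ b) := fun a b => map_add χ (ζ a) (ζ b)
  have hζs : ∀ (r : R) (a : P.ker), χ (ζ (algebraMap R P.Ring r • a)) = algebraMap R E r * χ (ζ a) := fun r a =>
    (map_mul χ (algebraMap R C r) (ζ a)).trans (congrArg (· * χ (ζ a)) (χ.commutes r))
  have hwd : ∀ c c' : P.ker, χ (ζ c) = χ (ζ c') →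
      Algebra.Extension.Cotangent.mk c = Algebra.Extension.Cotangent.mk c' := fun c c' h => by
    rw [← sub_eq_zero, ← map_sub, Algebra.Extension.Cotangent.mk_eq_zero_iff]
    exact hker.le (show χ (ζ c - ζ c') = 0 by rw [map_sub, h, sub_self])
  choose c hc using hex
  have hsmul : ∀ (r : R) (d : P.ker), Algebra.Extension.Cotangent.mk (algebraMap R P.Ring r • d) =
      r • Algebra.Extension.Cotangent.mk (P := P) d := fun r d => by
    rw [map_smul, IsScalarTower.algebraMap_smul]
  let L : RingHom.ker ε →ₗ[R] P.Cotangent :=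
    { toFun := fun x => Algebra.Extension.Cotangent.mk (c x)
      map_add' := fun x y => (hwd _ (c x + c y) (by
        rw [hζa]
        refine (hc (x + y)).trans ?_
        rw [Submodule.coe_add, map_add]
        exact congrArg₂ (· + ·) (hc x).symm (hc y).symm)).trans (map_add _ _ _)
      map_smul' := fun r x => (hwd _ (algebraMap R P.Ring r • c x) (by
        rw [hζs]
        refine (hc (r • x)).trans ?_
        rw [Submodule.coe_smul_of_tower, Algebra.smul_def, map_mul, ← IsScalarTower.algebraMap_apply]
        exact congrArg (algebraMap R E r * ·) (hc x).symm)).trans (hsmul r _) }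
  refine ⟨P.Cotangent, inferInstance, inferInstance, inferInstance, inferInstance, L, ?_, hproj⟩
  constructor
  · rintro ⟨_, n, rfl⟩
    have hu : IsUnit (algebraMap R R1 (g ^ n)) := by
      rw [map_pow]; exact (IsLocalization.Away.algebraMap_isUnit g).pow n
    rw [Module.End.isUnit_iff]
    refine Function.bijective_iff_has_inverse.2 ⟨fun m => (hu.unit⁻¹ : R1ˣ).1 • m, fun m => ?_, fun m => ?_⟩
    · show (hu.unit⁻¹ : R1ˣ).1 • ((g ^ n) • m) = m
      rw [← IsScalarTower.algebraMap_smul R1 (g ^ n) m, smul_smul, IsUnit.val_inv_mul, one_smul]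
    · show (g ^ n) • ((hu.unit⁻¹ : R1ˣ).1 • m) = m
      rw [← IsScalarTower.algebraMap_smul R1 (g ^ n), smul_smul, IsUnit.mul_val_inv, one_smul]
  · intro y
    obtain ⟨d, rfl⟩ := Algebra.Extension.Cotangent.mk_surjective y
    obtain ⟨⟨b, ⟨_, n, rfl⟩⟩, hb⟩ := IsLocalization.surj (Submonoid.powers (algebraMap R B g)) (χ d.1)
    dsimp only at hb
    have h0 : algebraMap R R1 (ε b) = 0 := by
      rw [← epsAway_algebraMap, ← hb, map_mul, show epsAway ε g (χ d.1) = 0 from d.2, zero_mul]
    obtain ⟨⟨_, k, rfl⟩, hk⟩ := (IsLocalization.map_eq_zero_iff (Submonoid.powers g) R1 (ε b)).1 h0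
    dsimp only at hk
    refine ⟨(⟨g ^ k • b, by rw [RingHom.mem_ker, map_smul, smul_eq_mul, hk]⟩, ⟨g ^ (k + n), k + n, rfl⟩), ?_⟩
    refine (hsmul (g ^ (k + n)) d).symm.trans (hwd _ _ ?_)
    rw [hζs]
    refine Eq.trans ?_ (hc _).symm
    show algebraMap R E (g ^ (k + n)) * χ (ζ d) = algebraMap B E (g ^ k • b)
    rw [Algebra.smul_def, map_mul, ← hb, IsScalarTower.algebraMap_apply R B E]
    simp only [map_pow, map_mul]
    ring
  · intro x y h
    have h1 : algebraMap B E x.1 = algebraMap B E y.1 := by
      have h2 : Algebra.Extension.Cotangent.mk (c x - c y) = 0 := by rw [map_sub]; exact sub_eq_zero.2 h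
      rw [Algebra.Extension.Cotangent.mk_eq_zero_iff] at h2
      have h3 : χ (ζ (c x) - ζ (c y)) = 0 := hker.ge h2
      rw [map_sub, sub_eq_zero] at h3
      exact (hc x).symm.trans (h3.trans (hc y))
    obtain ⟨⟨_, k, rfl⟩, hk⟩ := (IsLocalization.eq_iff_exists (Submonoid.powers (algebraMap R B g)) E).1 h1
    refine ⟨⟨g ^ k, k, rfl⟩, Subtype.ext ?_⟩
    show g ^ k • x.1 = g ^ k • y.1
    rw [Algebra.smul_def, Algebra.smul_def, map_pow]
    exact hk

/-- Projectivity of the augmentation ideal from formally smooth charts. -/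
theorem projective_ker (s : Set R) (hs : Ideal.span s = ⊤)
    (h : ∀ g ∈ s, ∃ (C : Type u) (_ : CommRing C) (_ : Algebra R C), Algebra.FormallySmooth R C ∧
      ∃ χ : C →ₐ[R] Localization.Away (algebraMap R B g), Function.Surjective χ ∧
        RingHom.ker χ = RingHom.ker ((epsAway ε g).comp χ) ^ 2) :
    Module.Projective R (RingHom.ker ε) := by
  classical
  obtain ⟨t, hts, ht⟩ := (Ideal.span_eq_top_iff_finite s).1 hs
  have h' : ∀ i : t, ∃ (N : Type u) (_ : AddCommGroup N) (_ : Module R N) (_ : Module (Localization.Away i.1) N)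
      (_ : IsScalarTower R (Localization.Away i.1) N) (L : RingHom.ker ε →ₗ[R] N),
      IsLocalizedModule (Submonoid.powers i.1) L ∧ Module.Projective (Localization.Away i.1) N := fun i => by
    obtain ⟨C, _, _, hC, χ, hχ, hker⟩ := h i.1 (hts i.2)
    exact exists_isLocalizedModule_projective ε i.1 χ hχ hker
  choose N _ _ _ _ L hL hN using h'
  exact ProjLoc12.projective_of_localizationSpan (fun i : t => i.1) (fun i : t => Localization.Away i.1)
    (by rw [show Set.range (fun i : t => i.1) = (t : Set R) from Subtype.range_val]; exact ht) _ N L hN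

end Groth.Agent.FormSmooth4
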