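import Groth.Agent.Lib.SmoothLift15.Algebra
import Groth.Agent.Lib.FormSmooth4.Proj

/-!
# Sections of square-zero extensions with projective augmentation ideal
-/

set_option autoImplicit false
set_option linter.style.haveILetI false
universe u

namespace Groth.Agent.FormSmooth4

open SmoothLift15 TensorProduct

variable {A B : Type u} [CommRing A] [CommRing B] [Algebra A B] (I : Ideal A) (π : B →ₐ[A] A ⧸ I)

/-- The augmentation modulo `I`, over `A ⧸ I`. -/
noncomputable def augQuot (hπ2 : RingHom.ker π ^ 2 = ⊥) : (B ⧸ I.map (algebraMap A B)) →ₐ[A ⧸ I] A ⧸ I :=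
  { (augment I π hπ2).toRingHom with
    commutes' := fun r => by
      obtain ⟨a, rfl⟩ := Ideal.Quotient.mk_surjective r
      exact π.commutes a }

theorem augQuot_mk (hπ2 : RingHom.ker π ^ 2 = ⊥) (b : B) : augQuot I π hπ2 (Ideal.Quotient.mk _ b) = π b := rfl

/-- Local sections and a projective augmentation ideal give a section. -/
theorem exists_section_of_projective (hπ2 : RingHom.ker π ^ 2 = ⊥)
    [Module.Projective (A ⧸ I) (RingHom.ker (augQuot I π hπ2))]
    (hloc : ∀ m : Ideal A, m.IsMaximal → ∃ g ∉ m, ∃ σ : B →ₐ[A] Localization.Away g,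
      ∀ b, π b = 0 → σ b ∈ I.map (algebraMap A (Localization.Away g))) :
    ∃ σ : B →ₐ[A] A, ∀ b, Ideal.Quotient.mk I (σ b) = π b := by
  classical
  -- the structure map is injective
  have hinj : Function.Injective (algebraMap A B) := by
    rw [injective_iff_map_eq_zero]
    intro a ha
    let T : Ideal A := Submodule.annihilator (A ∙ a)
    have hT : T = ⊤ := by
      by_contra hne
      obtain ⟨m, hm, hTm⟩ := Ideal.exists_le_maximal T hne
      obtain ⟨g, hg, σ, -⟩ := hloc m hm
      have h0 : algebraMap A (Localization.Away g) a = 0 := by rw [← σ.commutes, ha, map_zero]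
      obtain ⟨⟨_, k, rfl⟩, hk⟩ := (IsLocalization.map_eq_zero_iff (Submonoid.powers g) _ a).1 h0
      exact hg (hm.isPrime.mem_of_pow_mem k (hTm ((Submodule.mem_annihilator_span_singleton a _).2 hk)))
    have h1 : (1 : A) ∈ T := by rw [hT]; exact Submodule.mem_top
    simpa using (Submodule.mem_annihilator_span_singleton a (1 : A)).1 h1
  let ε := augQuot I π hπ2
  -- the kernel is a module over `A ⧸ I`
  let J : Submodule A B := (RingHom.ker π).restrictScalars A
  have hT : Module.IsTorsionBySet A J (I : Set A) := fun x ⟨i, hi⟩ => by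
    have h0 := Ideal.mul_mem_mul (algebraMap_mem_ker I π hi) (x.2 : (x : B) ∈ RingHom.ker π)
    rw [← pow_two, hπ2, Ideal.mem_bot] at h0
    refine Subtype.ext ?_
    change i • (x : B) = 0
    rw [Algebra.smul_def, h0]
  letI : Module (A ⧸ I) J := hT.module
  let Q := RingHom.ker ε
  let q : J →ₗ[A ⧸ I] Q :=
    { toFun := fun x => ⟨Ideal.Quotient.mk _ (x : B), x.2⟩
      map_add' := fun x y => Subtype.ext (map_add _ _ _)
      map_smul' := fun r x => by
        obtain ⟨a, rfl⟩ := Ideal.Quotient.mk_surjective r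
        refine Subtype.ext ?_
        change Ideal.Quotient.mk _ (a • (x : B)) = Ideal.Quotient.mk I a • Ideal.Quotient.mk _ (x : B)
        rw [Algebra.smul_def, Algebra.smul_def, map_mul]
        rfl }
  have hq : Function.Surjective q := by
    rintro ⟨y, hy⟩
    obtain ⟨b, rfl⟩ := Ideal.Quotient.mk_surjective y
    exact ⟨⟨b, hy⟩, rfl⟩
  have hker : ∀ x : J, q x = 0 → ∃ i ∈ I, algebraMap A B i = x := fun x hx =>
    exists_algebraMap_of_mem_map I π hπ2 (Ideal.Quotient.eq_zero_iff_mem.1 (congrArg Subtype.val hx))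
  obtain ⟨t, ht'⟩ := Module.projective_lifting_property q LinearMap.id hq
  have ht : ∀ x, q (t x) = x := fun x => LinearMap.congr_fun ht' x
  refine section_of_splitting I π hπ2 hinj
    { toFun := fun z => (t ⟨z.1, z.2⟩ : B)
      map_add' := fun z w => by
        rw [← Submodule.coe_add, ← map_add]
        rfl
      map_smul' := fun c z => by
        rw [RingHom.id_apply]
        refine Eq.trans ?_ (show ((Ideal.Quotient.mk I c • t ⟨z.1, z.2⟩ : J) : B) = c • (t ⟨z.1, z.2⟩ : B) from rfl)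
        rw [← map_smul]
        refine congrArg (fun w => (t w : B)) (Subtype.ext ?_)
        change c • z.1 = Ideal.Quotient.mk I c • z.1
        obtain ⟨b, hb⟩ := Ideal.Quotient.mk_surjective z.1
        rw [← hb, Algebra.smul_def, Algebra.smul_def]
        rfl } (fun z => (t ⟨z.1, z.2⟩).2) (fun z => congrArg Subtype.val (ht ⟨z.1, z.2⟩))

/-- Reducing a formally smooth chart modulo `I`. -/
theorem exists_chart_quot {C E R1 : Type u} [CommRing C] [Algebra A C] [Algebra.FormallySmooth A C] [CommRing E]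
    [Algebra A E] [Algebra (A ⧸ I) E] [IsScalarTower A (A ⧸ I) E] [CommRing R1] [Algebra (A ⧸ I) R1]
    (χ : C →ₐ[A] E) (hχ : Function.Surjective χ) (εE : E →ₐ[A ⧸ I] R1)
    (hker : RingHom.ker χ = I.map (algebraMap A C) ⊔ RingHom.ker (εE.toRingHom.comp χ.toRingHom) ^ 2) :
    ∃ (C₀ : Type u) (_ : CommRing C₀) (_ : Algebra (A ⧸ I) C₀), Algebra.FormallySmooth (A ⧸ I) C₀ ∧
      ∃ χ₀ : C₀ →ₐ[A ⧸ I] E, Function.Surjective χ₀ ∧ RingHom.ker χ₀ = RingHom.ker (εE.comp χ₀) ^ 2 := by
  let χ₀ : (A ⧸ I) ⊗[A] C →ₐ[A ⧸ I] E :=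
    Algebra.TensorProduct.lift (Algebra.ofId (A ⧸ I) E) χ fun _ _ => Commute.all _ _
  let q : C →+* (A ⧸ I) ⊗[A] C := Algebra.TensorProduct.includeRight.toRingHom
  have hq : Function.Surjective q := fun z => by
    obtain ⟨c, rfl⟩ := TensorProduct.mk_surjective A C (A ⧸ I) Ideal.Quotient.mk_surjective z
    exact ⟨c, rfl⟩
  have hχq : ∀ c, χ₀ (q c) = χ c := fun c => by
    show χ₀ ((1 : A ⧸ I) ⊗ₜ c) = χ c
    simp [χ₀]
  refine ⟨(A ⧸ I) ⊗[A] C, inferInstance, inferInstance, inferInstance, χ₀, fun y => ?_, ?_⟩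
  · obtain ⟨c, rfl⟩ := hχ y
    exact ⟨q c, hχq c⟩
  · have h1 : RingHom.ker χ₀ = (RingHom.ker χ).map q := by
      rw [← Ideal.map_comap_of_surjective q hq (RingHom.ker χ₀)]
      refine congrArg (Ideal.map q) (Ideal.ext fun c => ?_)
      show χ₀ (q c) = 0 ↔ χ c = 0
      rw [hχq]
    have h2 : RingHom.ker (εE.comp χ₀) = (RingHom.ker (εE.toRingHom.comp χ.toRingHom)).map q := by
      rw [← Ideal.map_comap_of_surjective q hq (RingHom.ker (εE.comp χ₀))]
      refine congrArg (Ideal.map q) (Ideal.ext fun c => ?_)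
      show εE (χ₀ (q c)) = 0 ↔ εE (χ c) = 0
      rw [hχq]
    rw [h1, h2, hker, Ideal.map_sup, Ideal.map_pow, Ideal.map_map, sup_eq_right]
    refine le_trans (Ideal.map_le_iff_le_comap.2 fun x hx => ?_) bot_le
    show q (algebraMap A C x) ∈ (⊥ : Ideal _)
    rw [Ideal.mem_bot]
    show (1 : A ⧸ I) ⊗ₜ[A] algebraMap A C x = 0
    rw [Algebra.algebraMap_eq_smul_one, TensorProduct.tmul_smul, TensorProduct.smul_tmul', Algebra.smul_def,
      Ideal.Quotient.algebraMap_eq, Ideal.Quotient.eq_zero_iff_mem.2 hx, zero_mul, TensorProduct.zero_tmul]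

end Groth.Agent.FormSmooth4
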