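import Groth.Agent.Lib.SmoothLift15.Main
import Groth.Agent.Lib.FormSmooth4.Section
import Groth.Agent.Lib.FormSmooth4.Nbhd

/-!
# Formally smooth morphisms from formally smooth charts
-/

set_option autoImplicit false
set_option linter.style.haveILetI false
universe u

open AlgebraicGeometry CategoryTheory CategoryTheory.Limits TopologicalSpace

namespace Groth.Agent.FormSmooth4

open SmoothLift15

set_option maxHeartbeats 1000000 in
/-- Lifting from formally smooth charts. -/
theorem exists_lift_spec {X S : Scheme.{u}} (f : X ⟶ S)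
    (hfs : ∀ x : X, ∃ (U : X.Opens) (V : S.Opens) (_ : IsAffineOpen U) (_ : IsAffineOpen V) (e : U ≤ f ⁻¹ᵁ V),
      x ∈ U ∧ (f.appLE V U e).hom.FormallySmooth)
    {A : Type u} [CommRing A] (I : Ideal A) (hI : I ^ 2 = ⊥)
    (a₀ : Spec (.of (A ⧸ I)) ⟶ X) (a : Spec (.of A) ⟶ S)
    (w : a₀ ≫ f = Spec.map (CommRingCat.ofHom (Ideal.Quotient.mk I)) ≫ a) :
    ∃ b' : Spec (.of A) ⟶ X, b' ≫ f = a ∧
      Spec.map (CommRingCat.ofHom (Ideal.Quotient.mk I)) ≫ b' = a₀ := by
  have hloc := exists_local_lift f hfs I hI a₀ a w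
  set i := Spec.map (CommRingCat.ofHom (Ideal.Quotient.mk I)) with hi_def
  haveI : IsClosedImmersion i := IsClosedImmersion.spec_of_surjective _ Ideal.Quotient.mk_surjective
  haveI : Surjective i := surjective_specMap_mk I hI
  -- the graph and a neighbourhood in which it is closed
  let γ : Spec (.of (A ⧸ I)) ⟶ pullback f a := pullback.lift a₀ i w
  haveI : IsImmersion (γ ≫ pullback.snd f a) := by rw [pullback.lift_snd]; infer_instance
  haveI : IsImmersion γ := IsImmersion.of_comp γ (pullback.snd f a)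
  let h := γ.liftCoborder
  let π : γ.coborderRange.toScheme ⟶ Spec (.of A) := γ.coborderRange.ι ≫ pullback.snd f a
  have hπ : h ≫ π = i := by
    rw [← Category.assoc, γ.liftCoborder_ι, pullback.lift_snd]
  -- the first order neighbourhood
  let J := h.ker ^ 2
  let ι₁ := J.subschemeι
  have hJ : ∀ V, J.ideal V = RingHom.ker (h.app V).hom ^ 2 := fun V => by
    rw [Scheme.IdealSheafData.ideal_pow, Pi.pow_apply, h.ker_apply]
  obtain ⟨s, hs⟩ : ∃ s, s ≫ ι₁ = h := by
    refine ⟨_, IsClosedImmersion.lift_fac ι₁ h ?_⟩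
    rw [Scheme.IdealSheafData.ker_subschemeι]
    exact fun V => by
      rw [Scheme.IdealSheafData.ideal_pow, Pi.pow_apply]
      exact Ideal.pow_le_self two_ne_zero
  haveI : IsClosedImmersion (s ≫ ι₁) := by rw [hs]; infer_instance
  haveI : IsClosedImmersion s := IsClosedImmersion.of_comp_isClosedImmersion s ι₁
  haveI : Surjective s := ⟨fun z => by
    have hz : ι₁ z ∈ (J.support : Set _) := J.range_subschemeι ▸ Set.mem_range_self z
    rw [Scheme.IdealSheafData.support_pow _ 2 two_ne_zero, Scheme.Hom.support_ker] at hz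
    obtain ⟨p, hp⟩ := (h.isClosedEmbedding.isClosed_range.closure_eq ▸ hz : ι₁ z ∈ Set.range h)
    exact ⟨p, ι₁.isClosedEmbedding.injective (by rw [← Scheme.Hom.comp_apply, hs, hp])⟩⟩
  have hsq : ∀ (U : J.subscheme.Opens) (x y : Γ(J.subscheme, U)), s.app U x = 0 → s.app U y = 0 → x * y = 0 := by
    refine ThickAff3.mul_eq_zero_of_cover s
      (fun U : γ.coborderRange.toScheme.affineOpens => ι₁ ⁻¹ᵁ (U.1 : γ.coborderRange.toScheme.Opens))
      (fun U => U.2.preimage _) ?_ ?_
    · rw [← Scheme.Hom.preimage_iSup, iSup_affineOpens_eq_top]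
      rfl
    intro U x y hx hy
    obtain ⟨x, rfl⟩ := J.subschemeι_app_surjective U x
    obtain ⟨y, rfl⟩ := J.subschemeι_app_surjective U y
    have key : ∀ z, s.app _ (J.subschemeι.app U z) = 0 → z ∈ RingHom.ker (h.app U).hom := fun z hz =>
      ThickAff3.ker_app_of_eq h (s ≫ J.subschemeι) hs U z (by rw [Scheme.Hom.comp_app]; exact hz)
    have hxy : x * y ∈ RingHom.ker (J.subschemeι.app U).hom := by
      rw [J.ker_subschemeι_app U, hJ, pow_two]
      exact Ideal.mul_mem_mul (key x hx) (key y hy)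
    rw [← map_mul]
    exact hxy
  haveI : IsAffine J.subscheme := ThickAff3.isAffine_of_sq_zero s hsq
  let π₁ := ι₁ ≫ π
  have hπ₁ : s ≫ π₁ = i := by rw [← Category.assoc, hs, hπ]
  -- the algebra
  let B := Γ(J.subscheme, ⊤)
  letI : Algebra A B := ((Scheme.ΓSpecIso (.of A)).inv ≫ π₁.appTop).hom.toAlgebra
  let pr : B →+* A ⧸ I := (s.appTop ≫ (Scheme.ΓSpecIso (.of (A ⧸ I))).hom).hom
  have hpr : ∀ x : A, pr (algebraMap A B x) = Ideal.Quotient.mk I x := by
    have e : (Scheme.ΓSpecIso (.of A)).inv ≫ π₁.appTop ≫ s.appTop ≫ (Scheme.ΓSpecIso (.of (A ⧸ I))).hom =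
        CommRingCat.ofHom (Ideal.Quotient.mk I) := by
      rw [← Category.assoc π₁.appTop, ← Scheme.Hom.comp_appTop, hπ₁, Scheme.ΓSpecIso_naturality,
        Iso.inv_hom_id_assoc]
    exact fun x => ConcreteCategory.congr_hom e x
  let p : B →ₐ[A] A ⧸ I := { pr with commutes' := hpr }
  have hp2 : RingHom.ker p ^ 2 = ⊥ := by
    rw [pow_two, eq_bot_iff]
    refine Ideal.mul_le.2 fun x hx y hy => (Ideal.mem_bot).2 (hsq ⊤ x y ?_ ?_)
    · exact (Scheme.ΓSpecIso (.of (A ⧸ I))).commRingCatIsoToRingEquiv.injective (hx.trans (map_zero _).symm)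
    · exact (Scheme.ΓSpecIso (.of (A ⧸ I))).commRingCatIsoToRingEquiv.injective (hy.trans (map_zero _).symm)
  -- identification with spectra
  let e := J.subscheme.isoSpec
  have heπ : e.inv ≫ π₁ = Spec.map (CommRingCat.ofHom (algebraMap A B)) := by
    rw [← cancel_mono (Spec (.of A)).isoSpec.hom, Category.assoc, ← Scheme.isoSpec_hom_naturality,
      Iso.inv_hom_id_assoc, Scheme.isoSpec_Spec_hom, ← Spec.map_comp]
    congr 1
    change π₁.appTop = (Scheme.ΓSpecIso (.of A)).hom ≫ (Scheme.ΓSpecIso (.of A)).inv ≫ π₁.appTop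
    rw [Iso.hom_inv_id_assoc]
  have hes : s ≫ e.hom = Spec.map (CommRingCat.ofHom pr) := by
    rw [← Scheme.isoSpec_hom_naturality, Scheme.isoSpec_Spec_hom, ← Spec.map_comp]
    rfl
  -- projectivity of the augmentation ideal
  haveI : Module.Projective (A ⧸ I) (RingHom.ker (augQuot I p hp2)) := by
    let G := {g : A | ∃ V : γ.coborderRange.toScheme.affineOpens, (π.appLE ⊤ V.1 le_top).hom.FormallySmooth ∧
      i ⁻¹ᵁ (Spec (.of A)).basicOpen ((Scheme.ΓSpecIso (.of A)).inv g) ≤ h ⁻¹ᵁ V.1}
    have hG : Ideal.span G = ⊤ := by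
      by_contra hne
      obtain ⟨m, hm, hle⟩ := Ideal.exists_le_maximal _ hne
      obtain ⟨t, ht⟩ := i.surjective (⟨m, hm.isPrime⟩ : PrimeSpectrum A)
      obtain ⟨V, hV, htV, hVfs⟩ := exists_fs_nbhd f hfs a γ.coborderRange.ι (h t)
      obtain ⟨_, ⟨r, rfl⟩, htr, hr⟩ := PrimeSpectrum.isTopologicalBasis_basic_opens.exists_subset_of_mem_open
        (show t ∈ (h ⁻¹ᵁ V).1 from htV) (h ⁻¹ᵁ V).2
      obtain ⟨g, rfl⟩ := Ideal.Quotient.mk_surjective r
      have hgm : g ∉ m := by
        intro hg
        have h1 : (PrimeSpectrum.comap (Ideal.Quotient.mk I) t).asIdeal = m := congrArg PrimeSpectrum.asIdeal ht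
        exact htr (h1 ▸ hg : g ∈ (PrimeSpectrum.comap (Ideal.Quotient.mk I) t).asIdeal)
      refine hgm (hle (Ideal.subset_span ⟨⟨V, hV⟩, hVfs, fun z hz => hr ?_⟩))
      rw [basicOpen_eq_of_affine] at hz
      exact hz
    refine projective_ker (augQuot I p hp2) (Ideal.Quotient.mk I '' G) ?_ ?_
    · have h1 := congrArg (Ideal.map (Ideal.Quotient.mk I)) hG
      rwa [Ideal.map_span, Ideal.map_top] at h1
    rintro _ ⟨g, ⟨⟨V, hV⟩, hVfs, hVg⟩, rfl⟩
    set gB := algebraMap A B g with hgB
    let E := Localization.Away (Ideal.Quotient.mk (I.map (algebraMap A B)) gB)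
    -- the affine piece
    set gΓ := (Scheme.ΓSpecIso (.of A)).inv g
    let V' : γ.coborderRange.toScheme.Opens := V ⊓ π ⁻¹ᵁ (Spec (.of A)).basicOpen gΓ
    have hV' : IsAffineOpen V' := by
      have : V' = γ.coborderRange.toScheme.basicOpen
          (γ.coborderRange.toScheme.presheaf.map (homOfLE le_top).op (π.app ⊤ gΓ) : Γ(γ.coborderRange.toScheme, V)) := by
        exact ((γ.coborderRange.toScheme.basicOpen_res _ _).trans
          (congrArg (V ⊓ ·) (Scheme.preimage_basicOpen π gΓ).symm)).symm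
      exact this ▸ hV.basicOpen _
    have hO : ι₁ ⁻¹ᵁ V' = J.subscheme.basicOpen gB := by
      have h1 : J.subscheme.basicOpen gB = π₁ ⁻¹ᵁ (Spec (.of A)).basicOpen gΓ :=
        (Scheme.preimage_basicOpen π₁ gΓ).symm
      rw [h1]
      refine le_antisymm (fun z hz => hz.2) fun z hz => ⟨?_, hz⟩
      obtain ⟨t, rfl⟩ := s.surjective z
      have h2 : t ∈ h ⁻¹ᵁ V := hVg (show i t ∈ (Spec (.of A)).basicOpen gΓ by
        rw [← hπ₁, Scheme.Hom.comp_apply]; exact hz)
      change ι₁ (s t) ∈ V
      rw [← Scheme.Hom.comp_apply, hs]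
      exact h2
    letI : Algebra B Γ(J.subscheme, ι₁ ⁻¹ᵁ V') := (J.subscheme.presheaf.map (homOfLE le_top).op).hom.toAlgebra
    haveI : IsLocalization.Away gB Γ(J.subscheme, ι₁ ⁻¹ᵁ V') := by
      suffices H : ∀ (O : J.subscheme.Opens) (hO : O = J.subscheme.basicOpen gB),
          letI : Algebra B Γ(J.subscheme, O) := (J.subscheme.presheaf.map (homOfLE le_top).op).hom.toAlgebra
          IsLocalization.Away gB Γ(J.subscheme, O) from H _ hO
      rintro _ rfl
      exact (isAffineOpen_top J.subscheme).isLocalization_basicOpen gB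
    let ψ : Γ(J.subscheme, ι₁ ⁻¹ᵁ V') →+* E := IsLocalization.Away.lift gB
      (g := (algebraMap (B ⧸ I.map (algebraMap A B)) E).comp (Ideal.Quotient.mk _))
      (IsLocalization.Away.algebraMap_isUnit (Ideal.Quotient.mk (I.map (algebraMap A B)) gB))
    obtain ⟨hψs, hψk⟩ := ker_awayQuot I gB ψ (IsLocalization.Away.lift_comp _ _)
    -- algebra structures
    let C := Γ(γ.coborderRange.toScheme, V')
    let cA : A →+* C := (π.appLE ⊤ V' le_top).hom.comp (Scheme.ΓSpecIso (.of A)).inv.hom
    letI : Algebra A C := cA.toAlgebra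
    haveI : Algebra.FormallySmooth A C := by
      rw [← RingHom.formallySmooth_algebraMap]
      refine (RingHom.FormallySmooth.of_bijective
        (Scheme.ΓSpecIso (.of A)).symm.commRingCatIsoToRingEquiv.bijective).comp ?_
      rw [← Scheme.Hom.appLE_map π (le_top : V ≤ π ⁻¹ᵁ ⊤) (homOfLE (inf_le_left : V' ≤ V)).op]
      exact hVfs.comp (formallySmooth_res_basicOpen hV
        (γ.coborderRange.toScheme.presheaf.map (homOfLE le_top).op (π.app ⊤ gΓ))
        (((γ.coborderRange.toScheme.basicOpen_res _ _).trans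
          (congrArg (V ⊓ ·) (Scheme.preimage_basicOpen π gΓ).symm)).symm) inf_le_left)
    let χ : C →ₐ[A] E := { ψ.comp (ι₁.app V').hom with
      commutes' := fun x => by
        change ψ ((π.appLE ⊤ V' le_top ≫ ι₁.app V') ((Scheme.ΓSpecIso (.of A)).inv x)) = _
        rw [appLE_comp_eq ι₁ π le_top le_top]
        change ψ (algebraMap B _ (algebraMap A B x)) = _
        rw [IsLocalization.Away.lift_eq]
        rfl }
    have hιs := J.subschemeι_app_surjective ⟨V', hV'⟩
    let εg := epsAway (augQuot I p hp2) (Ideal.Quotient.mk I g)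
    -- comparison with the sections of the closed subscheme
    have hεσ : ∀ y, εg (ψ y) = 0 ↔ s.app (ι₁ ⁻¹ᵁ V') y = 0 := by
      suffices H : ∀ (O : J.subscheme.Opens), O = J.subscheme.basicOpen gB → ∀ (φ' : Γ(J.subscheme, O) →+* E),
          (∀ b, φ' (J.subscheme.presheaf.map (homOfLE le_top).op b) =
            algebraMap (B ⧸ I.map (algebraMap A B)) E (Ideal.Quotient.mk _ b)) →
          ∀ y, εg (φ' y) = 0 ↔ s.app O y = 0 from
        H _ hO ψ (IsLocalization.Away.lift_eq _ _)
      rintro _ rfl φ' hφ' y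
      letI : Algebra B Γ(J.subscheme, J.subscheme.basicOpen gB) :=
        (J.subscheme.presheaf.map (homOfLE le_top).op).hom.toAlgebra
      haveI : IsLocalization.Away gB Γ(J.subscheme, J.subscheme.basicOpen gB) :=
        (isAffineOpen_top J.subscheme).isLocalization_basicOpen gB
      let X₀ := Spec (.of (A ⧸ I))
      let W := s ⁻¹ᵁ J.subscheme.basicOpen gB
      let cR : A ⧸ I →+* Γ(X₀, W) :=
        (X₀.presheaf.map (homOfLE le_top).op).hom.comp (Scheme.ΓSpecIso (.of (A ⧸ I))).inv.hom
      letI : Algebra (A ⧸ I) Γ(X₀, W) := cR.toAlgebra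
      have hsg : s.appTop gB = (Scheme.ΓSpecIso (.of (A ⧸ I))).inv (Ideal.Quotient.mk I g) := by
        rw [← hpr g]
        exact (ConcreteCategory.congr_hom (Scheme.ΓSpecIso (.of (A ⧸ I))).hom_inv_id (s.appTop gB)).symm
      haveI : IsLocalization.Away (Ideal.Quotient.mk I g) Γ(X₀, W) := by
        suffices H : ∀ (O : X₀.Opens), O = X₀.basicOpen ((Scheme.ΓSpecIso (.of (A ⧸ I))).inv (Ideal.Quotient.mk I g)) →
            letI : Algebra (A ⧸ I) Γ(X₀, O) := ((X₀.presheaf.map (homOfLE le_top).op).hom.comp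
              (Scheme.ΓSpecIso (.of (A ⧸ I))).inv.hom).toAlgebra
            IsLocalization.Away (Ideal.Quotient.mk I g) Γ(X₀, O) from
          H _ (by rw [← hsg]; exact Scheme.preimage_basicOpen s gB)
        rintro O rfl
        letI : Algebra Γ(X₀, ⊤) Γ(X₀, X₀.basicOpen ((Scheme.ΓSpecIso (.of (A ⧸ I))).inv (Ideal.Quotient.mk I g))) :=
          (X₀.presheaf.map (homOfLE le_top).op).hom.toAlgebra
        haveI := (isAffineOpen_top X₀).isLocalization_basicOpen
          ((Scheme.ΓSpecIso (.of (A ⧸ I))).inv (Ideal.Quotient.mk I g))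
        have := IsLocalization.isLocalization_of_base_ringEquiv
          (Submonoid.powers ((Scheme.ΓSpecIso (.of (A ⧸ I))).inv (Ideal.Quotient.mk I g)))
          Γ(X₀, X₀.basicOpen ((Scheme.ΓSpecIso (.of (A ⧸ I))).inv (Ideal.Quotient.mk I g)))
          (Scheme.ΓSpecIso (.of (A ⧸ I))).commRingCatIsoToRingEquiv
        rw [Submonoid.map_powers] at this
        convert this using 2
        · exact (ConcreteCategory.congr_hom (Scheme.ΓSpecIso (.of (A ⧸ I))).inv_hom_id (Ideal.Quotient.mk I g)).symm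
        rfl
      let τ := IsLocalization.algEquiv (Submonoid.powers (Ideal.Quotient.mk I g)) Γ(X₀, W)
        (Localization.Away (Ideal.Quotient.mk I g))
      have key : εg.toRingHom.comp φ' = τ.toRingEquiv.toRingHom.comp (s.app (J.subscheme.basicOpen gB)).hom := by
        refine IsLocalization.ringHom_ext (Submonoid.powers gB) (RingHom.ext fun b => ?_)
        show εg (φ' (J.subscheme.presheaf.map (homOfLE le_top).op b)) =
          τ (s.app (J.subscheme.basicOpen gB) (J.subscheme.presheaf.map (homOfLE le_top).op b))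
        rw [hφ']
        refine (epsAway_algebraMap (augQuot I p hp2) _ _).trans ?_
        rw [show s.app (J.subscheme.basicOpen gB) (J.subscheme.presheaf.map (homOfLE le_top).op b) =
          algebraMap (A ⧸ I) Γ(X₀, W) (pr b) from ?_]
        · exact (τ.commutes _).symm
        · refine (ConcreteCategory.congr_hom (s.naturality (homOfLE le_top).op) b).trans ?_
          refine congrArg (X₀.presheaf.map (homOfLE le_top).op) ?_
          exact (ConcreteCategory.congr_hom (Scheme.ΓSpecIso (.of (A ⧸ I))).hom_inv_id (s.appTop b)).symm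
      rw [show εg (φ' y) = τ (s.app (J.subscheme.basicOpen gB) y) from RingHom.congr_fun key y,
        EmbeddingLike.map_eq_zero_iff]
    have hk : RingHom.ker (εg.toRingHom.comp χ.toRingHom) = RingHom.ker (h.app V').hom := by
      ext c
      refine (hεσ (ι₁.app V' c)).trans ⟨fun hc => ThickAff3.ker_app_of_eq h (s ≫ ι₁) hs ⟨V', hV'⟩ c ?_,
        fun hc => ?_⟩
      · rw [Scheme.Hom.comp_app]; exact hc
      · have := app_eq_zero_of_eq hs.symm V' c hc
        rw [Scheme.Hom.comp_app] at this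
        exact this
    have hχker : RingHom.ker χ = I.map (algebraMap A C) ⊔ RingHom.ker (εg.toRingHom.comp χ.toRingHom) ^ 2 := by
      have hcomp : (ι₁.app V').hom.comp (algebraMap A C) =
          ((algebraMap B Γ(J.subscheme, ι₁ ⁻¹ᵁ V')).comp (algebraMap A B)) := RingHom.ext fun x => by
        change (π.appLE ⊤ V' le_top ≫ ι₁.app V') ((Scheme.ΓSpecIso (.of A)).inv x) = _
        rw [appLE_comp_eq ι₁ π le_top le_top]
        rfl
      calc RingHom.ker χ = RingHom.ker (ψ.comp (ι₁.app V').hom) := rfl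
        _ = ((I.map (algebraMap A C)).map (ι₁.app V').hom).comap (ι₁.app V').hom := by
          rw [← RingHom.comap_ker, hψk, Ideal.map_map, Ideal.map_map, hcomp]
        _ = I.map (algebraMap A C) ⊔ RingHom.ker (εg.toRingHom.comp χ.toRingHom) ^ 2 := by
          rw [Ideal.comap_map_of_surjective _ hιs, ← RingHom.ker_eq_comap_bot,
            J.ker_subschemeι_app ⟨V', hV'⟩, hJ, hk]
    exact @exists_chart_quot A _ I C E (Localization.Away (Ideal.Quotient.mk I g)) _ _ _ _ _ _
      (IsScalarTower.of_algebraMap_eq fun _ => rfl) _ _ χ (hψs.comp hιs) εg hχker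
  -- local sections
  obtain ⟨σ, hσ⟩ := exists_section_of_projective I p hp2 (fun m hm => by
    obtain ⟨g, hgm, b, hb1, hb2⟩ := hloc m hm
    refine ⟨g, hgm, ?_⟩
    set q := CommRingCat.ofHom (Ideal.Quotient.mk (I.map (algebraMap A (Localization.Away g)))) with hq_def
    set jr := CommRingCat.ofHom (Ideal.quotientMap (I.map (algebraMap A (Localization.Away g)))
      (algebraMap A (Localization.Away g)) Ideal.le_comap_map) with hjr_def
    have hIg : (I.map (algebraMap A (Localization.Away g))) ^ 2 = ⊥ := by rw [← Ideal.map_pow, hI, Ideal.map_bot]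
    haveI : Surjective (Spec.map q) := surjective_specMap_mk _ hIg
    let l₀ : Spec (.of (Localization.Away g)) ⟶ pullback f a := pullback.lift b _ hb1
    have hl₀ : Spec.map q ≫ l₀ = Spec.map jr ≫ γ := by
      apply pullback.hom_ext
      · simp only [l₀, γ, Category.assoc]
        erw [pullback.lift_fst, pullback.lift_fst]
        exact hb2
      · simp only [l₀, γ, Category.assoc, pullback.lift_snd, hi_def, ← Spec.map_comp]
        rfl
    have hrange : Set.range l₀ ⊆ Set.range γ.coborderRange.ι := by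
      rintro _ ⟨z, rfl⟩
      obtain ⟨t, rfl⟩ := (Spec.map q).surjective z
      rw [← Scheme.Hom.comp_apply, hl₀, Scheme.Hom.comp_apply]
      exact ⟨h (Spec.map jr t), by rw [← Scheme.Hom.comp_apply, γ.liftCoborder_ι]⟩
    let l := IsOpenImmersion.lift γ.coborderRange.ι l₀ hrange
    have hl : Spec.map q ≫ l = Spec.map jr ≫ h := by
      rw [← cancel_mono γ.coborderRange.ι, Category.assoc, Category.assoc, IsOpenImmersion.lift_fac,
        γ.liftCoborder_ι, hl₀]
    have hker : ι₁.ker ≤ l.ker := by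
      rw [Scheme.IdealSheafData.ker_subschemeι]
      refine Scheme.IdealSheafData.le_ofIdeals_iff.2 fun V => ?_
      rw [hJ, pow_two]
      refine Ideal.mul_le.2 fun x hx y hy => ?_
      rw [RingHom.mem_ker, map_mul]
      have key : ∀ x, h.app V x = 0 → (Spec.map q).app _ (l.app V x) = 0 := fun x hx => by
        have h0 : (Spec.map jr ≫ h).app V x = 0 := by
          rw [Scheme.Hom.comp_app]
          change (Spec.map jr).app _ (h.app V x) = 0
          rw [hx]
          exact map_zero _
        exact app_eq_zero_of_eq hl.symm V x h0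
      exact mul_eq_zero_specMap_mk _ hIg _ _ _ (key x hx) (key y hy)
    let l₁ := IsClosedImmersion.lift ι₁ l hker
    let σg := Spec.preimage (l₁ ≫ e.hom)
    have hσg : Spec.map σg ≫ e.inv ≫ ι₁ = l := by
      rw [Spec.map_preimage, Category.assoc, Iso.hom_inv_id_assoc, IsClosedImmersion.lift_fac]
    have hcomm : CommRingCat.ofHom (algebraMap A B) ≫ σg =
        CommRingCat.ofHom (algebraMap A (Localization.Away g)) := by
      refine Spec.map_injective ?_
      rw [Spec.map_comp, ← heπ]
      change Spec.map σg ≫ e.inv ≫ ι₁ ≫ π = _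
      rw [reassoc_of% hσg, ← Category.assoc, IsOpenImmersion.lift_fac, pullback.lift_snd]
    have hred : σg ≫ q = CommRingCat.ofHom pr ≫ jr := by
      refine Spec.map_injective ?_
      rw [Spec.map_comp, Spec.map_comp, ← cancel_mono e.inv, ← cancel_mono ι₁, ← hes]
      simp only [Category.assoc, Iso.hom_inv_id_assoc, hs, hσg, hl]
    refine ⟨{ σg.hom with commutes' := fun x => ConcreteCategory.congr_hom hcomm x }, fun x hx => ?_⟩
    rw [← Ideal.Quotient.eq_zero_iff_mem]
    refine (ConcreteCategory.congr_hom hred x).trans ?_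
    change jr (pr x) = 0
    rw [show pr x = 0 from hx, map_zero])
  refine ⟨Spec.map (CommRingCat.ofHom σ.toRingHom) ≫ e.inv ≫ ι₁ ≫ γ.coborderRange.ι ≫ pullback.fst f a, ?_, ?_⟩
  · simp only [Category.assoc, pullback.condition]
    change Spec.map (CommRingCat.ofHom σ.toRingHom) ≫ e.inv ≫ (ι₁ ≫ (γ.coborderRange.ι ≫ pullback.snd f a ≫ a)) = a
    rw [← Category.assoc γ.coborderRange.ι, ← Category.assoc ι₁, ← Category.assoc e.inv, heπ,
      ← Category.assoc, ← Spec.map_comp, ← CommRingCat.ofHom_comp,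
      show σ.toRingHom.comp (algebraMap A B) = RingHom.id A from RingHom.ext σ.commutes,
      CommRingCat.ofHom_id, Spec.map_id, Category.id_comp]
  · rw [hi_def, ← Category.assoc, ← Spec.map_comp, ← CommRingCat.ofHom_comp,
      show (Ideal.Quotient.mk I).comp σ.toRingHom = pr from RingHom.ext hσ, ← hes]
    simp only [Category.assoc, Iso.hom_inv_id_assoc]
    rw [reassoc_of% hs, ← Category.assoc h, γ.liftCoborder_ι, pullback.lift_fst]

/-- Formally smooth iff formally smooth on affine pieces. -/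
theorem isFormallySmoothHom_iff {X Y : Scheme.{u}} (f : X ⟶ Y) :
    MoreMor.IsFormallySmoothHom f ↔ ∀ (U : X.Opens) (V : Y.Opens) (_ : IsAffineOpen U) (_ : IsAffineOpen V)
      (e : U ≤ f ⁻¹ᵁ V), (f.appLE V U e).hom.FormallySmooth := by
  refine ⟨fun h U V hU hV e => formallySmooth_appLE f h hU hV e, fun h A _ I hI a₀ a w => ?_⟩
  obtain ⟨b', h1, h2⟩ := exists_lift_spec f (fun x => by
    obtain ⟨V, hV, hxV, -⟩ := exists_isAffineOpen_mem_and_subset (x := f x) (U := ⊤) trivial
    obtain ⟨U, hU, hxU, hUV⟩ := exists_isAffineOpen_mem_and_subset (x := x) (U := f ⁻¹ᵁ V) hxV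
    exact ⟨U, V, hU, hV, hUV, hxU, h U V hU hV hUV⟩) I hI a₀ a w.symm
  exact ⟨b', h2, h1⟩

end Groth.Agent.FormSmooth4
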